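import Mathlib

/-!
# Abelian subgroups of largest order in symmetric and alternating groups
-/

set_option autoImplicit false

namespace CfsgLib.SymSub

open Equiv MulAction Finset

theorem cube_le (m : ℕ) : m ^ 3 ≤ 3 ^ m ∧ (m ≠ 2 → m ≠ 3 → m ≠ 4 → 243 * m ^ 3 ≤ 125 * 3 ^ m) := by
  have key : ∀ k, 243 * (k + 5) ^ 3 ≤ 125 * 3 ^ (k + 5) := fun k => by
    induction k with
    | zero => norm_num
    | succ k ih =>
      have : (k + 1 + 5) ^ 3 ≤ 3 * (k + 5) ^ 3 := by ring_nf; omega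
      rw [show 3 ^ (k + 1 + 5) = 3 ^ (k + 5) * 3 by ring]
      omega
  rcases Nat.lt_or_ge m 5 with h | h
  · interval_cases m <;> simp
  · obtain ⟨k, rfl⟩ := Nat.exists_eq_add_of_le' h
    have := key k
    exact ⟨by omega, fun _ _ _ => this⟩

theorem prod_cases {ι : Type*} [Fintype ι] (s : ι → ℕ) :
    (∏ i, s i) ^ 3 ≤ 3 ^ (∑ i, s i) ∧ (243 * (∏ i, s i) ^ 3 ≤ 125 * 3 ^ (∑ i, s i) ∨
      ((∀ i, s i = 2 ∨ s i = 3 ∨ s i = 4) ∧
        ∑ i, s i = 2 * #{i | s i = 2} + 3 * #{i | s i = 3} + 4 * #{i | s i = 4} ∧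
        ∏ i, s i = 2 ^ #{i | s i = 2} * 3 ^ #{i | s i = 3} * 4 ^ #{i | s i = 4})) := by
  classical
  have h1 : ∀ t : Finset ι, (∏ i ∈ t, s i) ^ 3 ≤ 3 ^ (∑ i ∈ t, s i) := fun t => by
    rw [← prod_pow, ← prod_pow_eq_pow_sum]
    exact prod_le_prod' fun i _ => (cube_le _).1
  refine ⟨h1 _, or_iff_not_imp_right.2 fun h => ?_⟩
  obtain ⟨i, hi⟩ : ∃ i, ¬ (s i = 2 ∨ s i = 3 ∨ s i = 4) := by
    by_contra! H
    have H' : ∀ i ∈ univ, s i ∈ ({2, 3, 4} : Finset ℕ) := fun i _ => by simpa using H i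
    refine h ⟨H, ?_, ?_⟩
    · rw [← sum_fiberwise_of_maps_to' H' fun j => j]; simp; ring
    · rw [← prod_fiberwise_of_maps_to' H' fun j => j]; simp; ring
  rw [← mul_prod_erase _ _ (mem_univ i), ← add_sum_erase _ _ (mem_univ i), mul_pow, pow_add,
    ← mul_assoc, ← mul_assoc]
  push Not at hi
  exact Nat.mul_le_mul ((cube_le _).2 hi.1 hi.2.1 hi.2.2) (h1 _)

variable {α : Type*} [Fintype α] [DecidableEq α]

/-- The orbits of a permutation group. -/
abbrev Orb (A : Subgroup (Perm α)) : Type _ := orbitRel.Quotient A α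

noncomputable instance (A : Subgroup (Perm α)) : Fintype (Orb A) := Fintype.ofFinite _

/-- The orbit lengths. -/
noncomputable def sz (A : Subgroup (Perm α)) (ω : Orb A) : ℕ := Nat.card ω.orbit

omit [DecidableEq α] in
theorem sum_sz (A : Subgroup (Perm α)) : ∑ ω, sz A ω = Fintype.card α := by
  rw [← Nat.card_eq_fintype_card, Nat.card_congr (selfEquivSigmaOrbits' A α), Nat.card_sigma]
  rfl

omit [Fintype α] [DecidableEq α] in
theorem sz_mk (A : Subgroup (Perm α)) (x : α) : sz A (Quotient.mk'' x) = Nat.card (orbit A x) := rfl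

omit [Fintype α] [DecidableEq α] in
theorem eq_on_orbit {A : Subgroup (Perm α)} [IsMulCommutative A] {a b : A} {x y : α}
    (h : a • x = b • x) (hy : y ∈ orbit A x) : a • y = b • y := by
  obtain ⟨c, rfl⟩ := hy
  simp only [← mul_smul, mul_comm' _ c]
  rw [mul_smul, mul_smul, h]

omit [DecidableEq α] in
theorem card_cases (A : Subgroup (Perm α)) [IsMulCommutative A] :
    2 * Nat.card A ≤ ∏ ω, sz A ω ∨ (Nat.card A = ∏ ω, sz A ω ∧
      ∀ f : Orb A → A, ∃ a : A, ∀ x, a • x = f (Quotient.mk'' x) • x) := by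
  let φ : A →* ∀ ω : Orb A, A ⧸ stabilizer A ω.out := MonoidHom.pi fun ω => QuotientGroup.mk' _
  have key : ∀ a b : A, ∀ x, φ a (Quotient.mk'' x) = φ b (Quotient.mk'' x) → a • x = b • x :=
    fun a b x h => eq_on_orbit (x := (Quotient.mk'' x : Orb A).out) (by
      have := QuotientGroup.eq.1 h
      rw [mem_stabilizer_iff, mul_smul, inv_smul_eq_iff] at this
      exact this.symm) ((orbitRel A α).symm (Quotient.mk_out' x))
  have hφ : Function.Injective φ := fun a b h => Subtype.ext (Equiv.ext fun x => key a b x (congrFun h _))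
  have hc : Nat.card (∀ ω : Orb A, A ⧸ stabilizer A ω.out) = ∏ ω, sz A ω := by
    rw [Nat.card_pi]
    refine prod_congr rfl fun ω _ => ?_
    rw [← Nat.card_congr (orbitEquivQuotientStabilizer A ω.out), ← sz_mk, Quotient.out_eq']
  have h1 := φ.range.card_mul_index
  rw [hc, ← Nat.card_congr (MonoidHom.ofInjective hφ).toEquiv] at h1
  rcases Nat.lt_or_ge 1 φ.range.index with h | h
  · exact Or.inl (h1 ▸ mul_comm 2 _ ▸ Nat.mul_le_mul_left _ h)
  have h2 : φ.range.index = 1 := le_antisymm h (Nat.pos_of_ne_zero Subgroup.index_ne_zero_of_finite)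
  refine Or.inr ⟨by rw [← h1, h2, mul_one], fun f => ?_⟩
  obtain ⟨a, ha⟩ := MonoidHom.range_eq_top.1 (Subgroup.index_eq_one.1 h2) fun ω => φ (f ω) ω
  exact ⟨a, fun x => key _ _ x (congrFun ha _)⟩

omit [DecidableEq α] in
theorem card_le_prod (A : Subgroup (Perm α)) [IsMulCommutative A] : Nat.card A ≤ ∏ ω, sz A ω := by
  rcases card_cases A with h | h <;> omega

theorem bound_two_three {j a k : ℕ} :
    (2 * j + 3 * a = 3 * k + 4 → 2 ^ j * 3 ^ a ≤ 4 * 3 ^ k) ∧
      (2 * j + 3 * a = 3 * k + 2 → 2 ^ j * 3 ^ a ≤ 2 * 3 ^ k) ∧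
      (4 * j + 3 * a = 3 * k + 8 → 4 ^ j * 3 ^ a ≤ 16 * 3 ^ k) := by
  have h8 : ∀ i, 2 ^ (3 * i) ≤ 3 ^ (2 * i) := fun i => by
    rw [pow_mul, pow_mul]; exact Nat.pow_le_pow_left (by norm_num) i
  have h64 : ∀ i, 4 ^ (3 * i) ≤ 3 ^ (4 * i) := fun i => by
    rw [pow_mul, pow_mul]; exact Nat.pow_le_pow_left (by norm_num) i
  refine ⟨fun h => ?_, fun h => ?_, fun h => ?_⟩
  · obtain ⟨i, rfl⟩ : ∃ i, j = 3 * i + 2 := ⟨j / 3, by omega⟩
    obtain rfl : k = 2 * i + a := by omega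
    have := Nat.mul_le_mul_right (3 ^ a) (h8 i)
    rw [pow_add, pow_add]; nlinarith
  · obtain ⟨i, rfl⟩ : ∃ i, j = 3 * i + 1 := ⟨j / 3, by omega⟩
    obtain rfl : k = 2 * i + a := by omega
    have := Nat.mul_le_mul_right (3 ^ a) (h8 i)
    rw [pow_add, pow_add]; nlinarith
  · obtain ⟨i, rfl⟩ : ∃ i, j = 3 * i + 2 := ⟨j / 3, by omega⟩
    obtain rfl : k = 4 * i + a := by omega
    have := Nat.mul_le_mul_right (3 ^ a) (h64 i)
    rw [pow_add, pow_add]; nlinarith

theorem lt_of_cube {P c d k r : ℕ} (h : 243 * P ^ 3 ≤ 125 * 3 ^ (3 * k + r))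
    (h' : 125 * 3 ^ r * d ^ 3 < 243 * c ^ 3) : d * P < c * 3 ^ k := by
  refine lt_of_pow_lt_pow_left₀ 3 (Nat.zero_le _) (Nat.lt_of_mul_lt_mul_left (a := 243) ?_)
  rw [pow_add, mul_comm 3 k, pow_mul] at h
  have h1 := Nat.mul_le_mul_left (d ^ 3) h
  have h2 := Nat.mul_lt_mul_of_pos_right h' (show 0 < (3 ^ k) ^ 3 by positivity)
  rw [mul_pow, mul_pow]
  nlinarith

theorem prod_le {ι : Type*} [Fintype ι] (s : ι → ℕ) (k : ℕ) :
    (∑ i, s i = 3 * k → ∏ i, s i ≤ 3 ^ k) ∧ (∑ i, s i = 3 * k + 4 → ∏ i, s i ≤ 4 * 3 ^ k) ∧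
      (∑ i, s i = 3 * k + 2 → ∏ i, s i ≤ 2 * 3 ^ k) := by
  obtain ⟨h1, h2⟩ := prod_cases s
  have e : ∀ a b c : ℕ, 2 ^ c * 3 ^ a * 4 ^ b = 2 ^ (c + 2 * b) * 3 ^ a := fun a b c => by
    rw [pow_add, pow_mul]; ring
  refine ⟨fun h => ?_, fun h => ?_, fun h => ?_⟩
  · rw [h, mul_comm, pow_mul] at h1
    exact le_of_pow_le_pow_left₀ three_ne_zero (Nat.zero_le _) h1
  · rcases h2 with h2 | ⟨-, h3, h4⟩
    · simpa using (lt_of_cube (c := 4) (d := 1) (h ▸ h2) (by norm_num)).le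
    · rw [h4, e]; exact bound_two_three.1 (by omega)
  · rcases h2 with h2 | ⟨-, h3, h4⟩
    · simpa using (lt_of_cube (c := 2) (d := 1) (h ▸ h2) (by norm_num)).le
    · rw [h4, e]; exact bound_two_three.2.1 (by omega)

/-! ### Existence -/

/-- There is an abelian subgroup of `K n` of order `c`. -/
def Ab (ev : Prop) (n c : ℕ) : Prop :=
  ∃ A : Subgroup (Perm (Fin n)), IsMulCommutative A ∧ Nat.card A = c ∧ (ev → A ≤ alternatingGroup _)

/-- The embedding `S_m × S_n → S_(m+n)`. -/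
def sumHom (m n : ℕ) : Perm (Fin m) × Perm (Fin n) →* Perm (Fin (m + n)) :=
  finSumFinEquiv.permCongrHom.toMonoidHom.comp (Perm.sumCongrHom _ _)

theorem sumHom_injective (m n : ℕ) : Function.Injective (sumHom m n) :=
  finSumFinEquiv.permCongrHom.injective.comp Perm.sumCongrHom_injective

theorem sign_sumHom {m n : ℕ} (x : Perm (Fin m) × Perm (Fin n)) :
    Perm.sign (sumHom m n x) = Perm.sign x.1 * Perm.sign x.2 := by
  simp [sumHom]

theorem Ab.add {ev : Prop} {m n c d : ℕ} (h : Ab ev m c) (h' : Ab ev n d) : Ab ev (m + n) (c * d) := by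
  obtain ⟨A, h1, rfl, h2⟩ := h
  obtain ⟨B, h3, rfl, h4⟩ := h'
  have : IsMulCommutative (A.prod B) := ⟨⟨fun x y => Subtype.ext (Prod.ext
    (setLike_mul_comm x.2.1 y.2.1) (setLike_mul_comm x.2.2 y.2.2))⟩⟩
  refine ⟨(A.prod B).map (sumHom m n), inferInstance, ?_, fun h => ?_⟩
  · rw [Subgroup.card_map_of_injective (sumHom_injective m n), Nat.card_congr (A.prodEquiv B).toEquiv,
      Nat.card_prod]
  · rintro _ ⟨x, hx, rfl⟩
    rw [Perm.mem_alternatingGroup, sign_sumHom, Perm.mem_alternatingGroup.1 (h2 h hx.1),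
      Perm.mem_alternatingGroup.1 (h4 h hx.2), one_mul]

theorem ab_zpowers {ev : Prop} {n c : ℕ} (g : Perm (Fin n)) (h : orderOf g = c)
    (h' : ev → Perm.sign g = 1) : Ab ev n c :=
  ⟨Subgroup.zpowers g, inferInstance, (Nat.card_zpowers g).trans h, fun e =>
    (Subgroup.zpowers_le).2 (h' e)⟩

theorem ab_three (ev : Prop) (k : ℕ) : Ab ev (3 * k) (3 ^ k) := by
  induction k with
  | zero => exact ab_zpowers 1 (orderOf_one) fun _ => map_one _
  | succ k ih =>
    have : Fact (Nat.Prime 3) := ⟨Nat.prime_three⟩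
    exact ih.add (ab_zpowers (finRotate 3) (orderOf_eq_prime (by decide) (by decide)) fun _ => by decide)

theorem ab_two : Ab False 2 2 :=
  ab_zpowers (swap 0 1) (orderOf_eq_prime (by decide) (by decide)) False.elim

theorem ab_four (ev : Prop) : Ab ev 4 4 := by
  have key : ∀ a b : Perm (Fin 4), Perm.sign a = 1 ∧ a * a = 1 → Perm.sign b = 1 ∧ b * b = 1 →
    a * b = b * a := by decide +kernel
  refine ⟨{ carrier := {g | Perm.sign g = 1 ∧ g * g = 1}
            mul_mem' := fun {a b} => by revert a b; simp only [Set.mem_ofPred_eq]; decide +kernel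
            one_mem' := by simp
            inv_mem' := fun {a} => by revert a; simp only [Set.mem_ofPred_eq]; decide +kernel },
    ⟨⟨fun a b => Subtype.ext (key _ _ a.2 b.2)⟩⟩, ?_, fun _ g hg => hg.1⟩
  change Nat.card {g : Perm (Fin 4) // Perm.sign g = 1 ∧ g * g = 1} = 4
  rw [Nat.card_eq_fintype_card]; decide +kernel

theorem ab_five : Ab True 5 5 := by
  have : Fact (Nat.Prime 5) := ⟨Nat.prime_five⟩
  exact ab_zpowers (finRotate 5) (orderOf_eq_prime (by decide) (by decide)) fun _ => by decide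

theorem Ab.alt {n c : ℕ} (h : Ab True n c) :
    ∃ A : Subgroup (alternatingGroup (Fin n)), IsMulCommutative A ∧ Nat.card A = c := by
  obtain ⟨A, h1, h2, h3⟩ := h
  exact ⟨A.subgroupOf _, inferInstance, by
    rw [← h2, Nat.card_congr (Subgroup.subgroupOfEquivOfLe (h3 trivial)).toEquiv]⟩

/-! ### Full abelian subgroups of the alternating group -/

set_option synthInstance.maxSize 1000 in
theorem fin_facts : (∀ σ : Perm (Fin 2), Perm.sign σ = 1 → σ = 1) ∧
    (∀ σ : Perm (Fin 3), (∀ x y, σ x = x → σ y = y) → σ ^ 6 = 1) ∧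
    (∀ σ : Perm (Fin 4), Perm.sign σ = 1 → σ ^ 6 = 1) ∧
    (∀ σ τ : Perm (Fin 3), (∀ x y, σ x = x → σ y = y) → (∀ x y, τ x = x → τ y = y) →
      ∀ x, σ x = τ x → σ = τ) ∧
    ∀ σ τ : Perm (Fin 4), (∀ x y, σ x = x → σ y = y) → (∀ x y, τ x = x → τ y = y) →
      σ ^ 6 = 1 → τ ^ 6 = 1 → ∀ x, σ x = τ x → σ = τ := by
  refine ⟨by decide, by decide +kernel, by decide +kernel, by decide +kernel, by decide +kernel⟩

omit [DecidableEq α] in
theorem perm_ind {n : ℕ} (h : Nat.card α = n) : ∃ e : Fin n ≃ α, ∀ σ : Perm α, ∃ τ : Perm (Fin n),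
    σ = e.permCongrHom τ :=
  have e := (Fintype.equivFinOfCardEq (Nat.card_eq_fintype_card.symm.trans h)).symm
  ⟨e, fun σ => ⟨e.permCongrHom.symm σ, (e.permCongrHom.apply_symm_apply σ).symm⟩⟩

theorem blk_two (h : Nat.card α = 2) {σ : Perm α} (hs : Perm.sign σ = 1) : σ = 1 := by
  obtain ⟨e, he⟩ := perm_ind h
  obtain ⟨σ, rfl⟩ := he σ
  rw [fin_facts.1 σ (by simpa using hs), map_one]

theorem blk_pow (h : Nat.card α = 3 ∨ Nat.card α = 4) {σ : Perm α} (hs : Perm.sign σ = 1)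
    (hσ : ∀ x y, σ x = x → σ y = y) : σ ^ 6 = 1 := by
  rcases h with h | h <;> obtain ⟨e, he⟩ := perm_ind h <;> obtain ⟨σ, rfl⟩ := he σ <;> rw [← map_pow]
  · rw [fin_facts.2.1 σ fun x y => by simpa using hσ (e x) (e y), map_one]
  · rw [fin_facts.2.2.1 σ (by simpa using hs), map_one]

omit [DecidableEq α] in
theorem blk_eq (h : Nat.card α = 3 ∨ Nat.card α = 4) {σ τ : Perm α} (hσ : ∀ x y, σ x = x → σ y = y)
    (hτ : ∀ x y, τ x = x → τ y = y) (h1 : σ ^ 6 = 1) (h2 : τ ^ 6 = 1) {x : α} (hx : σ x = τ x) :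
    σ = τ := by
  rcases h with h | h <;> obtain ⟨e, he⟩ := perm_ind h <;> obtain ⟨σ, rfl⟩ := he σ <;>
    obtain ⟨τ, rfl⟩ := he τ <;> rw [← map_pow, EmbeddingLike.map_eq_one_iff] at h1 h2
  · rw [fin_facts.2.2.2.1 σ τ (fun x y => by simpa using hσ (e x) (e y))
      (fun x y => by simpa using hτ (e x) (e y)) (e.symm x) (by simpa using hx)]
  · rw [fin_facts.2.2.2.2 σ τ (fun x y => by simpa using hσ (e x) (e y))
      (fun x y => by simpa using hτ (e x) (e y)) h1 h2 (e.symm x) (by simpa using hx)]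

/-- The canonical shape: orbits of length 3 or 4, acted on by `A₃` or `V₄` independently. -/
structure Canon (A : Subgroup (Perm α)) : Prop where
  size : ∀ ω, sz A ω = 3 ∨ sz A ω = 4
  card : Nat.card A = ∏ ω, sz A ω
  mem : ∀ g, g ∈ A ↔ (∀ x, g x ∈ orbit A x) ∧ (∀ x, ∀ y ∈ orbit A x, g x = x → g y = y) ∧ g ^ 6 = 1

omit [Fintype α] [DecidableEq α] in
theorem mem_orbit_iff_of {A : Subgroup (Perm α)} {g : Perm α} (h : ∀ x, g x ∈ orbit A x) (x y : α) :
    g y ∈ orbit A x ↔ y ∈ orbit A x := by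
  rw [← orbit_eq_iff, ← orbit_eq_iff, orbit_eq_iff.2 (h y)]

theorem full_cases {A : Subgroup (Perm α)} [IsMulCommutative A] (hA : A ≤ alternatingGroup α)
    (hc : Nat.card A = ∏ ω, sz A ω)
    (hf : ∀ f : Orb A → A, ∃ a : A, ∀ x, a • x = f (Quotient.mk'' x) • x) :
    (∀ ω, sz A ω ≠ 2) ∧ ((∀ ω, sz A ω = 3 ∨ sz A ω = 4) → Canon A) := by
  classical
  have h0 : ∀ a : A, ∀ x, a.1 x ∈ orbit A x := fun a x => mem_orbit x a
  let res : A → ∀ x, Perm (orbit A x) := fun a x => a.1.subtypePerm (mem_orbit_iff_of (h0 a) x)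
  have hs : ∀ a x, Perm.sign (res a x) = 1 := fun a x => by
    obtain ⟨b, hb⟩ := hf fun ω => if ω = Quotient.mk'' x then a else 1
    rw [← Perm.sign_ofSubtype, ← Perm.mem_alternatingGroup.1 (hA b.2)]
    congr 1
    ext y
    refine Eq.trans ?_ (hb y).symm
    by_cases hy : y ∈ orbit A x
    · rw [Perm.ofSubtype_apply_of_mem _ hy, if_pos (Quotient.sound' hy)]; rfl
    · rw [Perm.ofSubtype_apply_of_not_mem _ hy, if_neg fun e => hy (Quotient.exact' e), one_smul]
  have hr : ∀ a : A, ∀ x, ∀ y ∈ orbit A x, a.1 x = x → a.1 y = y := fun a x y hy h =>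
    (eq_on_orbit (a := a) (b := 1) (h.trans (one_smul _ x).symm) hy).trans (one_smul _ y)
  refine ⟨fun ω h => ?_, fun h => ⟨h, hc, fun g => ⟨fun hg => ⟨h0 ⟨g, hg⟩, hr ⟨g, hg⟩, ?_⟩,
    fun ⟨h1, h2, h3⟩ => ?_⟩⟩⟩
  · obtain ⟨x, rfl⟩ := Quotient.exists_rep ω
    have : Subsingleton (orbit A x) := ⟨fun ⟨_, a, ha⟩ ⟨_, b, hb⟩ => Subtype.ext (by
      have h1 := congrArg Subtype.val (Equiv.congr_fun (blk_two h (hs a x)) ⟨x, mem_orbit_self x⟩)
      have h2 := congrArg Subtype.val (Equiv.congr_fun (blk_two h (hs b x)) ⟨x, mem_orbit_self x⟩)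
      exact ha.symm.trans (h1.trans (h2.symm.trans hb)))⟩
    have := Finite.card_le_one_iff_subsingleton.2 this
    have h : Nat.card (orbit A x) = 2 := h
    omega
  · ext x
    have := blk_pow (h (Quotient.mk'' x)) (hs ⟨g, hg⟩ x) fun y z e => Subtype.ext
      (hr ⟨g, hg⟩ y z (by rw [orbit_eq_iff.2 y.2]; exact z.2) (congrArg Subtype.val e))
    exact congrArg Subtype.val (Equiv.congr_fun ((Perm.subtypePerm_pow _ _ _).symm.trans this)
      ⟨x, mem_orbit_self x⟩)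
  choose f hf' using fun ω : Orb A => h1 ω.out
  obtain ⟨a, ha⟩ := hf f
  refine (Equiv.ext fun x => ?_ : a.1 = g) ▸ a.2
  have e := blk_eq (h (Quotient.mk'' x)) (σ := res a x) (τ := g.subtypePerm (mem_orbit_iff_of h1 x))
    (fun y z e => Subtype.ext (hr a y z (by rw [orbit_eq_iff.2 y.2]; exact z.2)
      (congrArg Subtype.val e)))
    (fun y z e => Subtype.ext (h2 y z (by rw [orbit_eq_iff.2 y.2]; exact z.2) (congrArg Subtype.val e)))
    (blk_pow (h (Quotient.mk'' x)) (hs a x) fun y z e => Subtype.ext (hr a y z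
      (by rw [orbit_eq_iff.2 y.2]; exact z.2) (congrArg Subtype.val e)))
    ((Perm.subtypePerm_pow _ _ _).trans (Equiv.ext fun y => Subtype.ext (Equiv.congr_fun h3 y.1)))
    (x := ⟨(Quotient.mk'' x : Orb A).out, Quotient.mk_out' (s₁ := orbitRel A α) x⟩)
    (Subtype.ext ((ha _).trans (by rw [Quotient.out_eq']; exact hf' _)))
  exact congrArg Subtype.val (Equiv.congr_fun e ⟨x, mem_orbit_self x⟩)

theorem Canon.conj {A B : Subgroup (Perm α)} (hA : Canon A) (hB : Canon B)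
    (h : Nat.card A = Nat.card B) : ∃ σ ∈ alternatingGroup α, ∀ g, g ∈ B ↔ σ⁻¹ * g * σ ∈ A := by
  classical
  have key : ∀ {C : Subgroup (Perm α)}, Canon C →
      Nat.card C = 3 ^ #{i | sz C i = 3} * 4 ^ #{i | sz C i = 4} := fun {C} hC => by
    have H' : ∀ i ∈ univ, sz C i ∈ ({3, 4} : Finset ℕ) := fun i _ => by simpa using hC.size i
    rw [hC.card, ← prod_fiberwise_of_maps_to' H' fun j => j]; simp
  rw [key hA, key hB] at h
  have h3 := congrArg (padicValNat 3) h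
  have h4 := congrArg (padicValNat 2) h
  have : Fact (Nat.Prime 3) := ⟨Nat.prime_three⟩
  have e1 : padicValNat 3 4 = 0 := padicValNat.eq_zero_of_not_dvd (by norm_num)
  have e2 : padicValNat 2 3 = 0 := padicValNat.eq_zero_of_not_dvd (by norm_num)
  have e3 : padicValNat 2 4 = 2 := padicValNat.prime_pow (p := 2) 2
  simp [padicValNat.mul, padicValNat.pow, e1, e2, e3] at h3 h4
  have hfib : ∀ c, Nonempty ({i // sz A i = c} ≃ {i // sz B i = c}) := fun c => by
    rw [← Fintype.card_eq, Fintype.card_subtype, Fintype.card_subtype]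
    by_cases h3' : c = 3
    · rw [h3', h3]
    by_cases h4' : c = 4
    · rw [h4', h4]
    rw [card_eq_zero.2 (filter_eq_empty_iff.2 fun i _ e => by rcases hA.size i with h | h <;> omega),
      card_eq_zero.2 (filter_eq_empty_iff.2 fun i _ e => by rcases hB.size i with h | h <;> omega)]
  let e := Equiv.ofFiberEquiv fun c => (hfib c).some
  have he : ∀ ω, sz B (e ω) = sz A ω := Equiv.ofFiberEquiv_map _
  have hfib' : ∀ ω : Orb B, Nonempty ({x // e (Quotient.mk'' x) = ω} ≃ {x // Quotient.mk'' x = ω}) :=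
    fun ω => by
      obtain ⟨ω, rfl⟩ := e.surjective ω
      rw [← Finite.card_eq]
      simp only [EmbeddingLike.apply_eq_iff_eq, ← orbitRel.Quotient.mem_orbit]
      exact (he ω).symm
  obtain ⟨σ, h1, hσ⟩ : ∃ σ ∈ alternatingGroup α,
      ∀ x, (Quotient.mk'' (σ x) : Orb B) = e (Quotient.mk'' x) := by
    let σ : Perm α := Equiv.ofFiberEquiv fun c => (hfib' c).some
    have hσ : ∀ x, (Quotient.mk'' (σ x) : Orb B) = e (Quotient.mk'' x) :=
      Equiv.ofFiberEquiv_map (f := fun x => e (Quotient.mk'' x)) _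
    rcases Int.units_eq_one_or (Perm.sign σ) with h | h
    · exact ⟨σ, h, hσ⟩
    obtain ⟨x, -⟩ : ∃ x, σ x ≠ x := by
      by_contra! H
      rw [show σ = 1 from Equiv.ext H] at h
      simp at h
    have : Nontrivial (orbit A x) := Finite.one_lt_card_iff_nontrivial.1 (by
      rcases hA.size (Quotient.mk'' x) with h | h <;> rw [sz_mk] at h <;> omega)
    obtain ⟨y, hy⟩ := exists_ne (⟨x, mem_orbit_self x⟩ : orbit A x)
    refine ⟨σ * swap x y, by
      simp [h, Perm.sign_swap fun e : x = y => hy (Subtype.ext e.symm)], fun z => ?_⟩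
    rw [Perm.mul_apply, hσ, swap_apply_def]
    have hxy : (Quotient.mk'' y.1 : Orb A) = Quotient.mk'' x := Quotient.sound' y.2
    split_ifs with h1 h2
    · rw [h1, hxy]
    · rw [h2, hxy]
    · rfl
  have ho : ∀ x y, σ y ∈ orbit B (σ x) ↔ y ∈ orbit A x := fun x y => by
    rw [← orbitRel_apply, ← orbitRel_apply, ← Quotient.eq'', ← Quotient.eq'', hσ, hσ,
      EmbeddingLike.apply_eq_iff_eq]
  refine ⟨σ, h1, fun g => ?_⟩
  rw [hA.mem, hB.mem]
  refine and_congr (σ.surjective.forall.trans (forall_congr' fun x => by simp [← ho]))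
    (and_congr (σ.surjective.forall.trans (forall_congr' fun x => ?_)) ?_)
  · rw [σ.surjective.forall]
    simp [ho, Equiv.symm_apply_eq]
  · rw [show σ⁻¹ * g * σ = σ⁻¹ * g * σ⁻¹⁻¹ by simp, conj_pow]
    simp [mul_eq_one_iff_eq_inv]

/-- An abelian subgroup of the alternating group is canonical unless it is small. -/
theorem canon_or {A : Subgroup (Perm α)} [IsMulCommutative A] (hA : A ≤ alternatingGroup α) :
    2 * Nat.card A ≤ ∏ ω, sz A ω ∨ 243 * Nat.card A ^ 3 ≤ 125 * 3 ^ Fintype.card α ∨ (Canon A ∧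
      ∃ a b, Fintype.card α = 3 * a + 4 * b ∧ Nat.card A = 3 ^ a * 4 ^ b) := by
  refine (card_cases A).imp_right fun ⟨h1, h2⟩ => ?_
  obtain ⟨h3, h4⟩ := full_cases hA h1 h2
  rw [← sum_sz A, h1]
  refine (prod_cases (sz A)).2.imp_right fun ⟨h5, h6, h7⟩ => ⟨h4 fun ω => (h5 ω).resolve_left (h3 ω), ?_⟩
  rw [card_eq_zero.2 (filter_eq_empty_iff.2 fun i _ => h3 i)] at h6 h7
  exact ⟨_, _, by simpa using h6, by simpa using h7⟩

omit [DecidableEq α] in
theorem card_le (A : Subgroup (Perm α)) [IsMulCommutative A] (k : ℕ) :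
    (Fintype.card α = 3 * k → Nat.card A ≤ 3 ^ k) ∧ (Fintype.card α = 3 * k + 4 → Nat.card A ≤ 4 * 3 ^ k) ∧
      (Fintype.card α = 3 * k + 2 → Nat.card A ≤ 2 * 3 ^ k) := by
  have h := prod_le (sz A) k
  rw [sum_sz] at h
  exact ⟨fun e => (card_le_prod A).trans (h.1 e), fun e => (card_le_prod A).trans (h.2.1 e),
    fun e => (card_le_prod A).trans (h.2.2 e)⟩

theorem card_le_alt {A : Subgroup (Perm α)} [IsMulCommutative A] (hA : A ≤ alternatingGroup α) {k : ℕ}
    (h : Fintype.card α = 3 * k + 8) : Nat.card A ≤ 16 * 3 ^ k := by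
  rcases canon_or hA with h1 | h1 | ⟨-, a, b, h1, h2⟩
  · have := (prod_le (sz A) (k + 2)).2.2 ((sum_sz A).trans h)
    rw [pow_add] at this; omega
  · simpa using (lt_of_cube (c := 16) (d := 1) (h ▸ h1) (by norm_num)).le
  · rw [h2, mul_comm]; exact bound_two_three.2.2 (by omega)

theorem canon_of_le {A : Subgroup (Perm α)} [IsMulCommutative A] (hA : A ≤ alternatingGroup α) {k : ℕ}
    (h : (Fintype.card α = 3 * k ∧ 3 ^ k ≤ Nat.card A) ∨
      (Fintype.card α = 3 * k + 4 ∧ 4 * 3 ^ k ≤ Nat.card A) ∨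
      (Fintype.card α = 3 * k + 8 ∧ 16 * 3 ^ k ≤ Nat.card A)) : Canon A := by
  have h0 : 0 < 3 ^ k := by positivity
  rcases canon_or hA with h1 | h1 | h1
  · have := prod_le (sz A) k
    have h2 := (prod_le (sz A) (k + 2)).2.2
    rw [sum_sz] at this h2
    rw [pow_add] at h2
    omega
  · rcases h with ⟨h, h2⟩ | ⟨h, h2⟩ | ⟨h, h2⟩
    · have := lt_of_cube (c := 1) (d := 1) (r := 0) (h ▸ h1) (by norm_num); omega
    · have := lt_of_cube (c := 4) (d := 1) (h ▸ h1) (by norm_num); omega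
    · have := lt_of_cube (c := 16) (d := 1) (h ▸ h1) (by norm_num); omega
  · exact h1.1

theorem ab_alt (k : ℕ) : Ab True (3 * k + 4) (4 * 3 ^ k) ∧ Ab True (3 * k + 8) (16 * 3 ^ k) :=
  ⟨mul_comm 4 _ ▸ (ab_three True k).add (ab_four True), by
    simpa [mul_assoc, mul_comm 16] using ((ab_three True k).add (ab_four True)).add (ab_four True)⟩

end CfsgLib.SymSub
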